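import Mathlib
import Cfsg.Prelude.Def_LocalEven

set_option autoImplicit false

namespace Cfsg.Agent.H37

universe u v w

/-- From an involvement one gets a surjection from a subgroup. -/
theorem involves_exists_surj {H : Type u} [Group H] {G : Type v} [Group G]
    (h : Cfsg.Involves H G) : ∃ (K : Subgroup G) (f : K →* H), Function.Surjective f := by
  obtain ⟨K, R, hn, ⟨e⟩⟩ := h
  exact ⟨K, e.toMonoidHom.comp (QuotientGroup.mk' _),
    e.surjective.comp (QuotientGroup.mk'_surjective _)⟩

/-- A quotient of a subgroup of a quotient is a quotient of a subgroup. -/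
theorem surj_of_quotient {H : Type u} [Group H] {G : Type v} [Group G] (N : Subgroup G) [N.Normal]
    (h : ∃ (K : Subgroup (G ⧸ N)) (f : K →* H), Function.Surjective f) :
    ∃ (K : Subgroup G) (f : K →* H), Function.Surjective f := by
  obtain ⟨K, f, hf⟩ := h
  refine ⟨K.comap (QuotientGroup.mk' N), f.comp ((QuotientGroup.mk' N).subgroupComap K),
    hf.comp ?_⟩
  exact MonoidHom.subgroupComap_surjective_of_surjective _ _ (QuotientGroup.mk'_surjective N)

/-- A quotient of a subgroup of a subgroup is a quotient of a subgroup. -/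
theorem surj_of_subgroup {H : Type u} [Group H] {G : Type v} [Group G] (S : Subgroup G)
    (h : ∃ (K : Subgroup S) (f : K →* H), Function.Surjective f) :
    ∃ (K : Subgroup G) (f : K →* H), K ≤ S ∧ Function.Surjective f := by
  obtain ⟨K, f, hf⟩ := h
  refine ⟨K.map S.subtype,
    f.comp (K.equivMapOfInjective S.subtype S.subtype_injective).symm.toMonoidHom, ?_, ?_⟩
  · rintro _ ⟨x, -, rfl⟩
    exact x.2
  · exact hf.comp (MulEquiv.surjective _)

/-- Every `p`-subgroup is commutative. -/
def PSubComm (p : ℕ) (G : Type*) [Group G] : Prop :=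
  ∀ Q : Subgroup G, IsPGroup p Q → ∀ x ∈ Q, ∀ y ∈ Q, x * y = y * x

theorem PSubComm.subgroup {p : ℕ} {G : Type*} [Group G] (h : PSubComm p G) (K : Subgroup G) :
    PSubComm p K := by
  intro Q hQ x hx y hy
  have := h (Q.map K.subtype) (hQ.map _) x ⟨x, hx, rfl⟩ y ⟨y, hy, rfl⟩
  exact Subtype.ext (by simpa using this)

theorem PSubComm.of_surjective {p : ℕ} [Fact p.Prime] {G : Type*} {H : Type*} [Group G] [Finite G]
    [Group H] (h : PSubComm p G) (f : G →* H) (hf : Function.Surjective f) : PSubComm p H := by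
  intro Q hQ x hx y hy
  have hf' : Function.Surjective (f.subgroupComap Q) :=
    MonoidHom.subgroupComap_surjective_of_surjective _ _ hf
  obtain S : Sylow p (Q.comap f) := default
  have hdvd : ((S : Subgroup (Q.comap f)).map (f.subgroupComap Q)).index ∣
      (S : Subgroup (Q.comap f)).index := Subgroup.index_map_dvd _ hf'
  have hfin : Finite H := Finite.of_surjective _ hf
  obtain ⟨n, hn⟩ := hQ.index ((S : Subgroup (Q.comap f)).map (f.subgroupComap Q))
  have hS := S.not_dvd_index
  have hn0 : n = 0 := by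
    by_contra hne
    apply hS
    rw [hn] at hdvd
    exact (dvd_pow_self p hne).trans hdvd
  rw [hn0, pow_zero, Subgroup.index_eq_one] at hn
  have hx' : (⟨x, hx⟩ : Q) ∈ (S : Subgroup (Q.comap f)).map (f.subgroupComap Q) := by
    rw [hn]; trivial
  have hy' : (⟨y, hy⟩ : Q) ∈ (S : Subgroup (Q.comap f)).map (f.subgroupComap Q) := by
    rw [hn]; trivial
  obtain ⟨s, hs, hsx⟩ := hx'
  obtain ⟨t, ht, hty⟩ := hy'
  have hcomm := h ((S : Subgroup (Q.comap f)).map (Q.comap f).subtype) (S.isPGroup'.map _)
    s ⟨s, hs, rfl⟩ t ⟨t, ht, rfl⟩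
  have hsx' : f s = x := congrArg Subtype.val hsx
  have hty' : f t = y := congrArg Subtype.val hty
  rw [← hsx', ← hty', ← map_mul, ← map_mul, hcomm]

end Cfsg.Agent.H37
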