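import Mathlib
import Cfsg.Prelude.Def_LocalEven
import Cfsg.Agent.H37.Involve

set_option autoImplicit false

namespace Cfsg.Agent.H37

open Matrix

/-- The submonoid of upper unitriangular matrices in `SL₃(ZMod p)`. -/
def heisMonoid (p : ℕ) : Submonoid (Matrix.SpecialLinearGroup (Fin 3) (ZMod p)) where
  carrier := {M | (M : Matrix (Fin 3) (Fin 3) (ZMod p)) 0 0 = 1 ∧
    (M : Matrix (Fin 3) (Fin 3) (ZMod p)) 1 0 = 0 ∧
    (M : Matrix (Fin 3) (Fin 3) (ZMod p)) 1 1 = 1 ∧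
    (M : Matrix (Fin 3) (Fin 3) (ZMod p)) 2 0 = 0 ∧
    (M : Matrix (Fin 3) (Fin 3) (ZMod p)) 2 1 = 0 ∧
    (M : Matrix (Fin 3) (Fin 3) (ZMod p)) 2 2 = 1}
  mul_mem' := by
    rintro a b ⟨a1, a2, a3, a4, a5, a6⟩ ⟨b1, b2, b3, b4, b5, b6⟩
    simp only [Set.mem_ofPred_eq, Matrix.SpecialLinearGroup.coe_mul, Matrix.mul_apply,
      Fin.sum_univ_three]
    simp [a1, a2, a3, a4, a5, a6, b1, b2, b3, b4, b5, b6]
  one_mem' := by
    simp

theorem heis_pow_p {p : ℕ} [Fact p.Prime] (hp : p ≠ 2)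
    (g : Matrix.SpecialLinearGroup (Fin 3) (ZMod p)) (hg : g ∈ heisMonoid p) : g ^ p = 1 := by
  obtain ⟨a1, a2, a3, a4, a5, a6⟩ := hg
  have hp3 : 3 ≤ p := by
    have := (Fact.out : p.Prime).two_le
    omega
  set N : Matrix (Fin 3) (Fin 3) (ZMod p) := (g : Matrix (Fin 3) (Fin 3) (ZMod p)) - 1 with hN
  have hN3 : N ^ 3 = 0 := by
    have hNe : N = !![0, (g : Matrix (Fin 3) (Fin 3) (ZMod p)) 0 1,
        (g : Matrix (Fin 3) (Fin 3) (ZMod p)) 0 2; 0, 0,
        (g : Matrix (Fin 3) (Fin 3) (ZMod p)) 1 2; 0, 0, 0] := by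
      ext i j
      fin_cases i <;> fin_cases j <;> simp [hN, a1, a2, a3, a4, a5, a6]
    rw [hNe]
    ext i j
    fin_cases i <;> fin_cases j <;> simp [pow_succ, Matrix.mul_apply, Fin.sum_univ_three]
  have hNp : N ^ p = 0 := by
    have h3 : N ^ p = N ^ 3 * N ^ (p - 3) := by
      rw [← pow_add]
      congr 1
      omega
    rw [h3, hN3, zero_mul]
  have hg1 : (g : Matrix (Fin 3) (Fin 3) (ZMod p)) = N + 1 := by simp [hN]
  apply Subtype.ext
  rw [Matrix.SpecialLinearGroup.coe_pow, hg1, add_pow_char_of_commute _ (Commute.one_right N), hNp]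
  simp

/-- The Heisenberg group of upper unitriangular matrices in `SL₃(ZMod p)`, `p` odd. -/
def heis (p : ℕ) [Fact p.Prime] (hp : p ≠ 2) :
    Subgroup (Matrix.SpecialLinearGroup (Fin 3) (ZMod p)) :=
  { heisMonoid p with
    inv_mem' := by
      intro g hg
      have h1 : g ^ p = 1 := heis_pow_p hp g hg
      have hpos : 0 < p := (Fact.out : p.Prime).pos
      have : g⁻¹ = g ^ (p - 1) := by
        rw [inv_eq_iff_mul_eq_one, ← pow_succ']
        have : p - 1 + 1 = p := by omega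
        rw [this, h1]
      rw [this]
      exact (heisMonoid p).pow_mem hg _ }

theorem heis_isPGroup (p : ℕ) [Fact p.Prime] (hp : p ≠ 2) : IsPGroup p (heis p hp) := by
  intro g
  refine ⟨1, ?_⟩
  apply Subtype.ext
  simpa using heis_pow_p hp g.1 g.2

theorem heis_le_qd (p : ℕ) [Fact p.Prime] (hp : p ≠ 2) : heis p hp ≤ Cfsg.qd p := by
  intro g hg
  obtain ⟨a1, a2, a3, a4, a5, a6⟩ := hg
  exact Subgroup.subset_closure ⟨a4, a5, a6⟩

/-- first generator of the Heisenberg group -/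
def heisX (p : ℕ) : Matrix.SpecialLinearGroup (Fin 3) (ZMod p) :=
  ⟨!![1, 1, 0; 0, 1, 0; 0, 0, 1], by simp [Matrix.det_fin_three]⟩

/-- second generator of the Heisenberg group -/
def heisY (p : ℕ) : Matrix.SpecialLinearGroup (Fin 3) (ZMod p) :=
  ⟨!![1, 0, 0; 0, 1, 1; 0, 0, 1], by simp [Matrix.det_fin_three]⟩

theorem heisX_mem (p : ℕ) [Fact p.Prime] (hp : p ≠ 2) : heisX p ∈ heis p hp := by
  refine ⟨?_, ?_, ?_, ?_, ?_, ?_⟩ <;> simp [heisX]

theorem heisY_mem (p : ℕ) [Fact p.Prime] (hp : p ≠ 2) : heisY p ∈ heis p hp := by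
  refine ⟨?_, ?_, ?_, ?_, ?_, ?_⟩ <;> simp [heisY]

theorem heis_not_comm (p : ℕ) [Fact p.Prime] : heisX p * heisY p ≠ heisY p * heisX p := by
  intro h
  have h2 : ((heisX p * heisY p : Matrix.SpecialLinearGroup (Fin 3) (ZMod p)) :
      Matrix (Fin 3) (Fin 3) (ZMod p)) 0 2 =
      ((heisY p * heisX p : Matrix.SpecialLinearGroup (Fin 3) (ZMod p)) :
      Matrix (Fin 3) (Fin 3) (ZMod p)) 0 2 := by rw [h]
  rw [Matrix.SpecialLinearGroup.coe_mul, Matrix.SpecialLinearGroup.coe_mul] at h2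
  have hx : (heisX p : Matrix (Fin 3) (Fin 3) (ZMod p)) = !![1, 1, 0; 0, 1, 0; 0, 0, 1] := rfl
  have hy : (heisY p : Matrix (Fin 3) (Fin 3) (ZMod p)) = !![1, 0, 0; 0, 1, 1; 0, 0, 1] := rfl
  rw [hx, hy] at h2
  simp [Matrix.mul_apply, Fin.sum_univ_three] at h2

/-- `Qd(p)` has a non-commutative `p`-subgroup. -/
theorem qd_not_pSubComm (p : ℕ) [Fact p.Prime] (hp : p ≠ 2) : ¬ PSubComm p (Cfsg.qd p) := by
  intro h
  have hx : heisX p ∈ Cfsg.qd p := heis_le_qd p hp (heisX_mem p hp)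
  have hy : heisY p ∈ Cfsg.qd p := heis_le_qd p hp (heisY_mem p hp)
  have hQ : IsPGroup p ((heis p hp).subgroupOf (Cfsg.qd p)) :=
    (heis_isPGroup p hp).comap_of_injective _ (Subgroup.subtype_injective _)
  have := h ((heis p hp).subgroupOf (Cfsg.qd p)) hQ ⟨heisX p, hx⟩
    (by simpa [Subgroup.mem_subgroupOf] using heisX_mem p hp) ⟨heisY p, hy⟩
    (by simpa [Subgroup.mem_subgroupOf] using heisY_mem p hp)
  exact heis_not_comm p (congrArg Subtype.val this)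

end Cfsg.Agent.H37
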